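import Groth.Agent.ProjMor.VAmple
import Groth.Agent.CohFinite.Ample

/-!
A power of an ample module embeds a proper scheme over a field in projective space.
-/

universe u

open CategoryTheory CategoryTheory.Limits Opposite TopologicalSpace AlgebraicGeometry
open Groth.Agent.QC (res resO res_res res_smul resO_resO app_res)
open TMul (IsGen val homOf val_homOf)
open ProjMor (ev HasChartSections)

set_option autoImplicit false
set_option backward.isDefEq.respectTransparency false

noncomputable section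

namespace Groth.Agent.AmpleEmb

variable {K : Type u} [Field K] {Y : Scheme.{u}}

theorem isClosedImmersion_of_charts {n : ℕ} (r : Y ⟶ CohB1.ProjSpace n K) [IsProper r]
    (h : ∀ y : Y, ∃ j : Fin (n + 1), y ∈ r ⁻¹ᵁ Proj.basicOpen (CohB1.polyGrading n K) (MvPolynomial.X j) ∧
      IsAffineOpen (r ⁻¹ᵁ Proj.basicOpen (CohB1.polyGrading n K) (MvPolynomial.X j)) ∧
      Function.Surjective (ev r (Proj.basicOpen (CohB1.polyGrading n K) (MvPolynomial.X j))
        (r ⁻¹ᵁ Proj.basicOpen (CohB1.polyGrading n K) (MvPolynomial.X j)) le_rfl)) :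
    IsClosedImmersion r := by
  have : IsImmersion r := ProjMor.isImmersion_of_forall r fun y => by
    obtain ⟨j, hy, haff, hs⟩ := h y
    refine ⟨Proj.basicOpen (CohB1.polyGrading n K) (MvPolynomial.X j), hy, ?_⟩
    have : IsAffine (Proj.basicOpen (CohB1.polyGrading n K) (MvPolynomial.X j) : (CohB1.ProjSpace n K).Opens).toScheme :=
      ProjLib.isAffineOpen_basicOpen _ (MvPolynomial.isHomogeneous_X K j) one_pos
    have : IsAffine (r ⁻¹ᵁ Proj.basicOpen (CohB1.polyGrading n K) (MvPolynomial.X j)).toScheme := haff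
    have := ProjMor.isClosedImmersion_restrict_of_surjective r _ hs
    infer_instance
  exact IsClosedImmersion.of_isPreimmersion r r.isClosedMap.isClosed_range

/-- A power of an ample module is pulled back from projective space by a closed immersion. -/
theorem exists_closedImmersion_projSpace (q : Y ⟶ Spec (CommRingCat.of K)) [IsProper q] {L : Y.Modules}
    (hL : CohB1.IsAmple L) :
    ∃ (n d : ℕ) (r : Y ⟶ CohB1.ProjSpace n K), 0 < d ∧ r ≫ CohB1.ProjSpace.toSpec n K = q ∧ IsClosedImmersion r ∧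
      Nonempty ((Scheme.Modules.pullback r).obj (Twist.twistProjSpace n K 1) ≅ CohB1.tensorPow L d) := by
  obtain ⟨m, hm, ι, _, s, hs⟩ := ProjMor.exists_hasChartSections q hL
  let N := CohB1.tensorPow L m
  let e := Fintype.equivFin ι
  let n := Fintype.card ι
  let s' : Fin (n + 1) → ProjUP.Γm N := Fin.cons (0 : Γ(N, ⊤)) fun k => s (e.symm k)
  have hs' : ∀ i, ∃ j, s' j = s i := fun i => ⟨(e i).succ, by simp [s']⟩
  have hgen : ProjUP.GeneratedBy N s' := ProjMor.generatedBy_of_mem_genLocus s' fun x => by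
    obtain ⟨i, V, h2, hx, -⟩ := hs x
    obtain ⟨j, hj⟩ := hs' i
    exact ⟨j, by rw [hj]; exact hx⟩
  obtain ⟨r, hr, τ, hτ⟩ := ProjMor.exists_projSpace q (TMul.isInvertible_tensorPow hL.1 m) s' hgen
  have := ProjMor.isProper_toSpec n K
  have : IsProper (r ≫ CohB1.ProjSpace.toSpec n K) := by rw [hr]; infer_instance
  have : IsProper r := IsProper.of_comp r (CohB1.ProjSpace.toSpec n K)
  refine ⟨n, m, r, hm, hr, isClosedImmersion_of_charts r fun x => ?_, ⟨τ⟩⟩
  obtain ⟨i, V, h2, hx, hV, hU, hclo⟩ := hs x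
  obtain ⟨j, hji⟩ := hs' i
  have hX : ∀ l, MvPolynomial.X l ∈ CohB1.polyGrading n K 1 := MvPolynomial.isHomogeneous_X K
  let D : Fin (n + 1) → (CohB1.ProjSpace n K).Opens := fun l => Proj.basicOpen (CohB1.polyGrading n K) (MvPolynomial.X l)
  have hU' : CohB1.genLocus N (homOf (s i)) = r ⁻¹ᵁ D j := by
    rw [← hji, ← hτ j, ProjMor.homOf_app, TMul.genLocus_comp]
    exact ProjMor.genLocus_pull1 (ProjMor.genDegOne_projSpace n K) r (hX j)
  refine ⟨j, hU'.le hx, hU' ▸ hU, ?_⟩
  have hVtop : V = ⊤ := by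
    have : Subsingleton ↥(Spec (CommRingCat.of K)) := inferInstanceAs (Subsingleton (PrimeSpectrum K))
    refine top_le_iff.1 fun z _ => ?_
    rw [Subsingleton.elim z (q.base x)]
    exact h2 hx
  subst hVtop
  suffices ∀ (U : Y.Opens) (_ : U = CohB1.genLocus N (homOf (s i))) (h1 : U ≤ r ⁻¹ᵁ D j),
      Function.Surjective (ev r (D j) U h1) from this _ hU'.symm le_rfl
  rintro U rfl h1
  rw [← RingHom.range_eq_top, eq_top_iff, ← hclo, Subring.closure_le]
  rintro z (⟨a, rfl⟩ | ⟨k, hk⟩)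
  · obtain ⟨c, rfl⟩ := (ConcreteCategory.bijective_of_isIso (Scheme.ΓSpecIso (CommRingCat.of K)).inv).2 a
    refine ⟨GrT.deh (CohB1.polyGrading n K) (hX j) (algebraMap K _ c), ?_⟩
    refine (ProjMor.ev_deh_algebraMap (CohB1.polyGrading n K) r (show r ≫ ProjMor.base _ = q from hr) (hX j) h1 c).trans ?_
    rw [show ProjUP.toGlobal q c = q.appTop ((Scheme.ΓSpecIso (CommRingCat.of K)).inv c) from rfl]
    refine Eq.symm ?_
    rw [← ProjMor.ev_res q (le_refl ⊤) le_top]
    refine congrArg (resO Y le_top) ?_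
    exact congrArg (fun f => (CommRingCat.Hom.hom f) ((Scheme.ΓSpecIso (CommRingCat.of K)).inv c))
      (Scheme.Hom.appLE_eq_app q)
  · obtain ⟨l, hl⟩ := hs' k
    refine ⟨GrT.deh (CohB1.polyGrading n K) (hX j) (MvPolynomial.X l), ?_⟩
    have e1 : ∀ a, τ.hom.app ⊤ (ProjMor.pull1 r (hX a)) = s' a := hτ
    let U₀ := CohB1.genLocus N (homOf (s i))
    have h3 := ((app_res τ.hom (le_top : U₀ ≤ ⊤) (ProjMor.pull1 r (hX l))).trans (congrArg (τ.hom.app U₀)
      (ProjMor.res_pull1 r (hX j) (hX l) h1))).trans (TMul.app_smul _ _ _)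
    have h4 := h3.trans (congrArg (fun t : Γ(N, U₀) =>
      ev r _ U₀ h1 (GrT.deh (CohB1.polyGrading n K) (hX j) (MvPolynomial.X l)) • t)
      (app_res τ.hom (le_top : U₀ ≤ ⊤) (ProjMor.pull1 r (hX j))).symm)
    rw [e1, e1, hji, hl] at h4
    have hg := TMul.isGen_genLocus (homOf (s i)) _ le_rfl
    refine hg.1 ?_
    change _ • res N le_rfl _ = z • res N le_rfl _
    rw [Groth.Agent.QC.res_self, val_homOf]
    exact h4.symm.trans hk.symm

end Groth.Agent.AmpleEmb
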