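import Groth.Agent.AmpleEmb.Closed
import Groth.Agent.SerrePn.ClosedDepth
import Groth.Agent.SerrePn.ClosedStatements
import Groth.Agent.ExtShX.Proj
import Groth.Agent.CMFlat.Quotient
import Groth.Agent.AusBuc.Basic
import Groth.Agent.SerreReg.Regular
import Groth.Agent.RegDual.Scheme
import Groth.Agent.LocFree.Props

/-!
Locally free sheaves on a regular subscheme of projective space against vanishing in very negative twists.
-/

universe u

open CategoryTheory CategoryTheory.Limits Opposite TopologicalSpace AlgebraicGeometry IsLocalRing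

set_option autoImplicit false
set_option linter.style.haveILetI false
set_option backward.isDefEq.respectTransparency false

noncomputable section

namespace Groth.Agent.AmpleEmb

/-- Inverses for the tensor product are unique. -/
theorem nonempty_iso_of_inverse {X : Scheme.{u}} {A A' B : X.Modules}
    (h : CohB1.tensorMod B A ≅ Coh.structureModule X) (h' : CohB1.tensorMod A' B ≅ Coh.structureModule X) :
    Nonempty (A' ≅ A) :=
  ⟨(SecTwist.unitorR A').symm ≪≫ PicGrp.tensorModIso (Iso.refl A') h.symm ≪≫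
    (TMul.assocIso A' B A).symm ≪≫ PicGrp.tensorModIso h' (Iso.refl A) ≪≫ TMul.leftUnitIso A⟩

theorem free_of_depth_ge {R : Type u} [CommRing R] [IsRegularLocalRing R] (d : ℕ) (hd : ringKrullDim R = d)
    (M : Type u) [AddCommGroup M] [Module R M] [Module.Finite R M] (h : (d : ℕ∞) ≤ LocCoh.depth R M) :
    Module.Free R M := by
  classical
  rcases subsingleton_or_nontrivial M with hM | hM
  · exact Module.Free.of_subsingleton R M
  haveI := CMFlat.isCohenMacaulayLocalRing_of_isRegularLocalRing R
  have hs : LocCoh.depth R R = (d : ℕ∞) := by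
    have h1 := LocCoh.IsCohenMacaulayLocalRing.supportDim_eq_depth (R := R)
    rw [Module.supportDim_self_eq_ringKrullDim, hd] at h1
    exact (WithBot.coe_inj.1 h1).symm
  have hex : ∃ e, SerreReg.PdLE R M e := ⟨d, SerreReg.pdLE_of_isRegularLocalRing R d hd M⟩
  obtain ⟨t, ht, hdt⟩ := AusBuc.depth_add_pd hs (Nat.find hex) M (Nat.find_spec hex) fun e he => Nat.find_min hex he
  rw [hdt] at h
  have h2 : d ≤ t := by exact_mod_cast h
  have h0 : Nat.find hex = 0 := by omega
  have h3 := Nat.find_spec hex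
  rw [h0] at h3
  haveI := (SerreReg.pdLE_zero_iff M).mp h3
  haveI : Module.FinitePresentation R M := Module.finitePresentation_of_finite R M
  exact Module.free_of_flat_of_isLocalRing

theorem exists_closed_specialization {X : Scheme.{u}} [CompactSpace X] (z : X) :
    ∃ x : X, z ⤳ x ∧ IsClosed ({x} : Set X) := by
  obtain ⟨x, hx, hxc⟩ := (isClosed_closure (s := ({z} : Set X))).exists_closed_singleton
    ⟨z, subset_closure rfl⟩
  exact ⟨x, specializes_iff_mem_closure.2 hx, hxc⟩

/-- Freeness at the closed points suffices. -/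
theorem isFinLocFree_of_free_closed {X : Scheme.{u}} [IsLocallyNoetherian X] [CompactSpace X] {F : X.Modules}
    (hF : Coh.IsCoh F) (h : ∀ x : X, IsClosed ({x} : Set X) → Module.Free (X.presheaf.stalk x) (F.presheaf.stalk x)) :
    FlatMod.IsFinLocFree F := by
  refine LocFree.isFinLocFree_of_affine_free hF.1 fun z => ?_
  obtain ⟨x, hzx, hxc⟩ := exists_closed_specialization z
  obtain ⟨U, hU, hx, -⟩ := exists_isAffineOpen_mem_and_subset (x := x) (U := ⊤) trivial
  haveI := hF.1
  haveI := h x hxc
  have hfp : Module.FinitePresentation Γ(X, U) Γ(F, U) :=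
    LocFree.finitePresentation_sections_of_isFP hF.1 (QC.isFP_of_isQCoh_of_isFT (hM := hF.1) hF.2) hU
  obtain ⟨g, hg⟩ := LocFree.exists_stalkMap hU hF.1 hx
  letI := Module.compHom (F.presheaf.stalk x) (X.presheaf.germ U x hx).hom
  letI := (X.presheaf.germ U x hx).hom.toAlgebra
  haveI := hU.isLocalization_stalk ⟨x, hx⟩
  haveI : IsScalarTower Γ(X, U) (X.presheaf.stalk x) (F.presheaf.stalk x) :=
    ⟨fun a c m => mul_smul ((X.presheaf.germ U x hx).hom a) c m⟩
  let p := (hU.primeIdealOf ⟨x, hx⟩).asIdeal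
  haveI : Module.Flat Γ(X, U) (X.presheaf.stalk x) := IsLocalization.flat (X.presheaf.stalk x) p.primeCompl
  haveI : Module.Flat Γ(X, U) (F.presheaf.stalk x) :=
    Module.Flat.trans Γ(X, U) (X.presheaf.stalk x) (F.presheaf.stalk x)
  haveI := hg
  haveI : Module.Flat Γ(X, U) (LocalizedModule p.primeCompl Γ(F, U)) :=
    Module.Flat.of_linearEquiv (IsLocalizedModule.iso p.primeCompl g)
  haveI : Module.Flat (Localization.AtPrime p) (LocalizedModule p.primeCompl Γ(F, U)) :=
    (Module.flat_iff_of_isLocalization (Localization.AtPrime p) p.primeCompl _).2 inferInstance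
  haveI : Module.Free (Localization.AtPrime p) (LocalizedModule p.primeCompl Γ(F, U)) :=
    Module.free_of_flat_of_isLocalRing
  obtain ⟨a, ha, hfree⟩ := Module.FinitePresentation.exists_free_localizedModule_powers p.primeCompl
    (LocalizedModule.mkLinearMap p.primeCompl Γ(F, U)) (Localization.AtPrime p)
  haveI := hfree.1
  haveI : Module.Finite Γ(X, U) Γ(F, U) := inferInstance
  obtain ⟨h1, h2⟩ := LocFree.free_finite_basicOpen hF.1 hU a
  refine ⟨X.basicOpen a, hU.basicOpen a, hzx.mem_open (X.basicOpen a).2 ?_, h1, h2⟩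
  have hfs : hU.fromSpec.base (hU.primeIdealOf ⟨x, hx⟩) = x := hU.fromSpec_primeIdealOf ⟨x, hx⟩
  have hm : hU.primeIdealOf ⟨x, hx⟩ ∈ hU.fromSpec ⁻¹ᵁ X.basicOpen a := by
    rw [hU.fromSpec_preimage_basicOpen]
    exact ha
  rw [← hfs]
  exact hm

variable {k : Type u} [Field k] {N : ℕ} {X : Scheme.{u}} (f : X ⟶ CohB1.ProjSpace N k) [IsClosedImmersion f]
  [X.Over (Spec (CommRingCat.of k))] (hf : f ≫ CohB1.ProjSpace.toSpec N k = X ↘ Spec (CommRingCat.of k))

include hf in
theorem van_push_iff_twist {E : X.Modules} (hE : Coh.IsCoh E) (i : ℕ) :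
    SerrePn.Van ((Scheme.Modules.pushforward f).obj E) i ↔
      ∃ m₀ : ℤ, ∀ m : ℤ, m₀ ≤ m → Subsingleton (Coh.HH X (CohB1.tensorMod E (SerrePn.Lx f (-m))) i) := by
  constructor
  · rintro ⟨m₀, hm⟩
    exact ⟨m₀, fun m h => (SerrePn.hh_twist_iff f hf E hE _ i).2 (hm m h)⟩
  · rintro ⟨m₀, hm⟩
    exact ⟨m₀, fun m h => (SerrePn.hh_twist_iff f hf E hE _ i).1 (hm m h)⟩

include hf in
/-- On a subscheme whose closed points are regular of dimension `d`. -/
theorem isFinLocFree_iff_van (d : ℕ)
    (hreg : ∀ x : X, IsClosed ({x} : Set ↥X) →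
      IsRegularLocalRing (X.presheaf.stalk x) ∧ ringKrullDim (X.presheaf.stalk x) = d)
    {F : X.Modules} (hF : Coh.IsCoh F) :
    FlatMod.IsFinLocFree F ↔ ∀ i, i < d →
      ∃ m₀ : ℤ, ∀ m : ℤ, m₀ ≤ m → Subsingleton (Coh.HH X (CohB1.tensorMod F (SerrePn.Lx f (-m))) i) := by
  constructor
  · intro h i hi
    refine (van_push_iff_twist f hf hF i).1 (SerrePn.van_push_of_cm f (fun x hx => ?_) h i hi)
    obtain ⟨h1, h2⟩ := hreg x hx
    haveI := h1
    exact ⟨CMFlat.isCohenMacaulayLocalRing_of_isRegularLocalRing _, h2⟩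
  · intro h
    haveI := CohFinite.isNoetherian_projSpace N k
    haveI : IsLocallyNoetherian X := SerrePn.isLocallyNoetherian_of_immersion f
    haveI : CompactSpace X := QuasiCompact.compactSpace_of_compactSpace f
    refine isFinLocFree_of_free_closed hF fun x hx => ?_
    obtain ⟨h1, h2⟩ := hreg x hx
    haveI := h1
    haveI := RegDual.finite_stalk hF x
    exact free_of_depth_ge d h2 _
      ((SerrePn.van_push_iff f hF d).1 (fun i hi => (van_push_iff_twist f hf hF i).2 (h i hi)) x hx)

end Groth.Agent.AmpleEmb
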